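import Groth.Agent.GrothVanish.Basic
import Mathlib.CategoryTheory.Abelian.Images
import Mathlib.CategoryTheory.Sites.LocallySurjective
import Mathlib.CategoryTheory.Sites.EpiMono

/-!
# Grothendieck vanishing on Noetherian spaces: the induction
-/

set_option autoImplicit false

universe u

open CategoryTheory CategoryTheory.Limits TopologicalSpace Opposite

namespace Groth.Agent.GrothVanish

variable {X : TopCat.{u}} (F : CohTop.Ab X) (e : ℕ)

/-- Families of germs with finite support at the level-`e` irreducible closed subsets meeting `U`. -/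
def germFam (U : Opens X) : AddSubgroup (∀ T : Lev X e, Germ F T.1) where
  carrier := {g | {T | g T ≠ 0}.Finite ∧ ∀ T, ¬ Meets U T.1 → g T = 0}
  zero_mem' := ⟨by simp, fun _ _ => rfl⟩
  add_mem' := fun {a b} ha hb => ⟨(ha.1.union hb.1).subset fun T hT => by
      by_contra hcon
      simp only [Set.mem_union, Set.mem_ofPred_eq, not_or, not_not] at hcon
      exact hT (by rw [Pi.add_apply, hcon.1, hcon.2, add_zero]),
    fun T hT => by rw [Pi.add_apply, ha.2 T hT, hb.2 T hT, add_zero]⟩
  neg_mem' := fun {a} ha => ⟨ha.1.subset fun T hT h0 => hT (by rw [Pi.neg_apply, h0, neg_zero]),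
    fun T hT => by rw [Pi.neg_apply, ha.2 T hT, neg_zero]⟩

variable {F e}

open scoped Classical in
/-- Restriction of families of germs. -/
noncomputable def famRes {U V : Opens X} (_h : V ≤ U) : germFam F e U →+ germFam F e V where
  toFun g := ⟨fun T => if Meets V T.1 then g.1 T else 0,
    g.2.1.subset fun T hT h0 => hT (by simp [h0]), fun T hT => if_neg hT⟩
  map_zero' := Subtype.ext (funext fun T => by simp)
  map_add' a b := Subtype.ext (funext fun T => by
    show (if Meets V T.1 then (a.1 T + b.1 T) else 0) = _ + _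
    split_ifs with h <;> simp [h])

open scoped Classical in
lemma famRes_apply {U V : Opens X} (h : V ≤ U) (g : germFam F e U) (T : Lev X e) :
    (famRes h g).1 T = if Meets V T.1 then g.1 T else 0 := rfl

variable (F e)

/-- The presheaf of families of germs. -/
noncomputable def famPre : TopCat.Presheaf AddCommGrpCat.{u} X where
  obj U := AddCommGrpCat.of (germFam F e U.unop)
  map f := AddCommGrpCat.ofHom (famRes (leOfHom f.unop))
  map_id U := by
    classical
    refine AddCommGrpCat.ext fun g => Subtype.ext (funext fun T => ?_)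
    show (if Meets U.unop T.1 then g.1 T else 0) = g.1 T
    split_ifs with h
    · rfl
    · exact (g.2.2 T h).symm
  map_comp {U V W} f g := by
    classical
    refine AddCommGrpCat.ext fun x => Subtype.ext (funext fun T => ?_)
    show (if Meets W.unop T.1 then x.1 T else 0) =
      if Meets W.unop T.1 then (if Meets V.unop T.1 then x.1 T else 0) else 0
    split_ifs with h h'
    · rfl
    · exact absurd (h.mono (leOfHom g.unop)) h'
    · rfl

theorem famPre_isSheaf [NoetherianSpace X] : (famPre F e).IsSheaf := by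
  classical
  rw [TopCat.Presheaf.isSheaf_iff_isSheafUniqueGluing]
  intro ι U sf hsf
  let sf' : ∀ i, germFam F e (U i) := fun i => sf i
  have hcompat : ∀ i j (T : Lev X e), Meets (U i) T.1 → Meets (U j) T.1 → (sf' i).1 T = (sf' j).1 T := by
    intro i j T hi hj
    have h := congrArg (fun z : germFam F e (U i ⊓ U j) => z.1 T) (hsf i j)
    change (if Meets (U i ⊓ U j) T.1 then (sf' i).1 T else 0) =
      if Meets (U i ⊓ U j) T.1 then (sf' j).1 T else 0 at h
    rwa [if_pos (hi.inf hj), if_pos (hi.inf hj)] at h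
  let g : ∀ T : Lev X e, Germ F T.1 := fun T =>
    if h : ∃ i, Meets (U i) T.1 then (sf' h.choose).1 T else 0
  have hg : ∀ i T, Meets (U i) T.1 → g T = (sf' i).1 T := fun i T hi => by
    have h : ∃ i, Meets (U i) T.1 := ⟨i, hi⟩
    simp only [g, dif_pos h]
    exact hcompat _ _ _ h.choose_spec hi
  obtain ⟨t, ht⟩ := (NoetherianSpace.isCompact ((iSup U : Opens X) : Set X)).elim_finite_subcover
    (fun i => (U i : Set X)) (fun i => (U i).2) (fun x hx => Set.mem_iUnion.2 (Opens.mem_iSup.1 hx))
  have hfin : {T | g T ≠ 0}.Finite := by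
    refine (t.finite_toSet.biUnion fun i _ => (sf' i).2.1).subset fun T hT => ?_
    have h : ∃ i, Meets (U i) T.1 := by
      by_contra h
      exact hT (dif_neg h)
    obtain ⟨i, x, hxi, hxT⟩ := h
    obtain ⟨j, hj, hxj⟩ := Set.mem_iUnion₂.1 (ht (Opens.mem_iSup.2 ⟨i, hxi⟩))
    exact Set.mem_biUnion hj (by
      show (sf' j).1 T ≠ 0
      rw [← hg j T ⟨x, hxj, hxT⟩]
      exact hT)
  have hmeets : ∀ T : Lev X e, Meets (iSup U) T.1 → ∃ i, Meets (U i) T.1 := by
    rintro T ⟨x, hx, hxT⟩
    obtain ⟨i, hi⟩ := Opens.mem_iSup.1 hx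
    exact ⟨i, x, hi, hxT⟩
  refine ⟨(⟨g, hfin, fun T hT => dif_neg fun ⟨i, hi⟩ => hT (hi.mono (le_iSup U i))⟩ : germFam F e (iSup U)),
    fun i => ?_, fun z hz => ?_⟩
  · refine Subtype.ext (funext fun T => ?_)
    show (if Meets (U i) T.1 then g T else 0) = (sf' i).1 T
    split_ifs with h
    · exact hg i T h
    · exact ((sf' i).2.2 T h).symm
  · refine Subtype.ext (funext fun T => ?_)
    let z' : germFam F e (iSup U) := z
    show z'.1 T = g T
    by_cases h : ∃ i, Meets (U i) T.1
    · obtain ⟨i, hi⟩ := h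
      have := congrArg (fun w : germFam F e (U i) => w.1 T) (hz i)
      change (if Meets (U i) T.1 then z'.1 T else 0) = (sf' i).1 T at this
      rwa [if_pos hi, ← hg i T hi] at this
    · rw [z'.2.2 T fun hT => h (hmeets T hT)]
      simp only [g, dif_neg h]

/-- The flasque sheaf of families of germs. -/
noncomputable def famSheaf [NoetherianSpace X] : CohTop.Ab X := ⟨famPre F e, famPre_isSheaf F e⟩

instance [NoetherianSpace X] : TopCat.Sheaf.IsFlasque (famSheaf F e) where
  epi {U V} i := by
    classical
    refine (AddCommGrpCat.epi_iff_surjective _).2 fun g => ?_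
    let g' : germFam F e V.unop := g
    refine ⟨(⟨g'.1, g'.2.1, fun T hT => g'.2.2 T fun h => hT (h.mono (leOfHom i.unop))⟩ : germFam F e U.unop),
      Subtype.ext (funext fun T => ?_)⟩
    show (if Meets V.unop T.1 then g'.1 T else 0) = g'.1 T
    split_ifs with h
    · rfl
    · exact (g'.2.2 T h).symm

variable {F e}

open scoped Classical in
/-- The germs of a section, as a family. -/
noncomputable def toFam [NoetherianSpace X] (hF : SuppLT F (e + 1)) (U : Opens X) :
    F.obj.obj (op U) →+ germFam F e U where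
  toFun s := ⟨fun T => if h : Meets U T.1 then germ h s else 0,
    (finite_germ_ne_zero hF s).subset fun T hT => by
      by_cases h : Meets U T.1
      · refine ⟨h, fun h0 => hT ?_⟩
        dsimp only
        rw [dif_pos h]
        exact h0
      · exact absurd (dif_neg h) hT,
    fun T hT => dif_neg hT⟩
  map_zero' := Subtype.ext (funext fun T => by
    show (if h : Meets U T.1 then germ h 0 else 0) = 0
    split_ifs <;> simp)
  map_add' a b := Subtype.ext (funext fun T => by
    show (if h : Meets U T.1 then germ h (a + b) else 0) =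
      (if h : Meets U T.1 then germ h a else 0) + (if h : Meets U T.1 then germ h b else 0)
    split_ifs <;> simp)

open scoped Classical in
lemma toFam_apply [NoetherianSpace X] (hF : SuppLT F (e + 1)) {U : Opens X} (s : F.obj.obj (op U)) (T : Lev X e)
    (h : Meets U T.1) : (toFam hF U s).1 T = germ h s :=
  dif_pos h

/-- The map to families of germs. -/
noncomputable def toFamSheaf [NoetherianSpace X] (hF : SuppLT F (e + 1)) : F ⟶ famSheaf F e where
  hom :=
  { app := fun U => AddCommGrpCat.ofHom (toFam hF U.unop)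
    naturality := fun U V f => by
      classical
      refine AddCommGrpCat.ext fun s => Subtype.ext (funext fun T => ?_)
      show (if h : Meets V.unop T.1 then germ h (F.obj.map f s) else 0) =
        if Meets V.unop T.1 then (if h : Meets U.unop T.1 then germ h s else 0) else 0
      by_cases h : Meets V.unop T.1
      · rw [dif_pos h, if_pos h, dif_pos (h.mono (leOfHom f.unop))]
        exact germ_res h (leOfHom f.unop) s
      · rw [dif_neg h, if_neg h] }

/-- The kernel is supported in lower dimension. -/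
theorem suppLT_kernel [NoetherianSpace X] (hF : SuppLT F (e + 1)) : SuppLT (kernel (toFamSheaf hF)) e := by
  classical
  intro U s T hUT hT
  let ι := kernel.ι (toFamSheaf hF)
  have hinj : ∀ V : Opens X, Function.Injective (ι.hom.app (op V)) := fun V => by
    have : Mono ((sheafToPresheaf _ _).map ι) := inferInstance
    have : Mono (((evaluation _ _).obj (op V)).map ((sheafToPresheaf _ _).map ι)) := inferInstance
    exact (AddCommGrpCat.mono_iff_injective _).1 this
  suffices h : VanishesAt (ι.hom.app (op U) s) T by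
    obtain ⟨V, hVU, hVT, hV⟩ := h
    refine ⟨V, hVU, hVT, hinj V ?_⟩
    rw [map_zero, res_app]
    exact hV
  rcases eq_or_lt_of_le hT with heq | hlt
  · rw [← germ_eq_zero_iff hUT]
    have h0 : (toFamSheaf hF).hom.app (op U) (ι.hom.app (op U) s) = 0 := by
      have := congrArg (fun f : kernel (toFamSheaf hF) ⟶ famSheaf F e => f.hom.app (op U) s)
        (kernel.condition (toFamSheaf hF))
      exact this
    have h1 := congrArg (fun g : germFam F e U => g.1 ⟨T, heq.symm⟩) h0
    change (toFam hF U (ι.hom.app (op U) s)).1 ⟨T, heq.symm⟩ = 0 at h1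
    rwa [toFam_apply hF _ ⟨T, heq.symm⟩ hUT] at h1
  · refine hF U _ T hUT ?_
    push_cast
    exact ENat.add_one_le_iff (ENat.natCast_ne_top e) |>.2 hlt

/-- The cokernel is supported in lower dimension. -/
theorem suppLT_cokernel [NoetherianSpace X] (hF : SuppLT F (e + 1)) : SuppLT (cokernel (toFamSheaf hF)) e := by
  classical
  intro U s T hUT hT
  let π := cokernel.π (toFamSheaf hF)
  obtain ⟨x, hxU, hxT⟩ := hUT
  have : Sheaf.IsLocallySurjective π := (Sheaf.isLocallySurjective_iff_epi' AddCommGrpCat.{u} π).2 inferInstance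
  obtain ⟨V, i, ⟨g, hg⟩, hxV⟩ := (Presheaf.imageSieve_mem (Opens.grothendieckTopology X) π.hom s) x hxU
  let g' : germFam F e V := g
  have hVT : Meets V T := ⟨x, hxV, hxT⟩
  obtain ⟨W, hWV, hWT, hW⟩ : ∃ W : Opens X, W ≤ V ∧ Meets W T ∧ ∀ T' : Lev X e, Meets W T'.1 → g'.1 T' ≠ 0 → T'.1 = T := by
    let S := (g'.2.1.toFinset.image (fun T' : Lev X e => T'.1)).filter (· ≠ T)
    obtain ⟨W, hWV, hWT, hW⟩ := exists_mem_forall_not_subset T S (fun T' hT' => by
      obtain ⟨h1, hne⟩ := Finset.mem_filter.1 hT'
      obtain ⟨T'', -, rfl⟩ := Finset.mem_image.1 h1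
      exact not_le_of_lev T hT T'' (Ne.symm hne)) hVT
    refine ⟨W, hWV, hWT, fun T' hT' hne => ?_⟩
    by_contra hcon
    exact hW T'.1 (Finset.mem_filter.2 ⟨Finset.mem_image_of_mem _ (g'.2.1.mem_toFinset.2 hne), hcon⟩) hT'
  obtain ⟨W', hW'W, hW'T, a, ha⟩ : ∃ (W' : Opens X) (hle : W' ≤ W), Meets W' T ∧ ∃ a : F.obj.obj (op W'),
      toFam hF W' a = famRes (hle.trans hWV) g' := by
    by_cases hlev : Order.height T = (e : ℕ∞)
    · let T₀ : Lev X e := ⟨T, hlev⟩
      obtain ⟨V₁, hV₁, a₀, ha₀⟩ := germ_surjective T ⟨V, hVT⟩ (g'.1 T₀)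
      let V₂ := W ⊓ V₁
      let a₁ := res F (inf_le_right : V₂ ≤ V₁) a₀
      let S := ((finite_germ_ne_zero hF a₁).toFinset.image (fun T' : Lev X e => T'.1)).filter (· ≠ T)
      obtain ⟨W', hW', hW'T, hS⟩ := exists_mem_forall_not_subset T S (fun T' hT' => by
        obtain ⟨h1, hne⟩ := Finset.mem_filter.1 hT'
        obtain ⟨T'', -, rfl⟩ := Finset.mem_image.1 h1
        exact not_le_of_lev T hT T'' (Ne.symm hne)) (hWT.inf hV₁)
      refine ⟨W', hW'.trans inf_le_left, hW'T, res F hW' a₁, Subtype.ext (funext fun T' => ?_)⟩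
      rw [famRes_apply]
      by_cases hm : Meets W' T'.1
      · rw [toFam_apply hF _ T' hm, germ_res hm hW', if_pos hm]
        by_cases he : T'.1 = T
        · obtain rfl : T' = T₀ := Subtype.ext he
          rw [germ_res _ inf_le_right]
          exact ha₀
        · have h1 : germ (hm.mono hW') a₁ = 0 := by
            by_contra hne
            exact hS T'.1 (Finset.mem_filter.2 ⟨Finset.mem_image_of_mem _
              ((finite_germ_ne_zero hF a₁).mem_toFinset.2 ⟨_, hne⟩), he⟩) hm
          rw [h1]
          by_contra hne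
          exact he (hW T' (hm.mono (hW'.trans inf_le_left)) (Ne.symm hne))
      · rw [if_neg hm]
        exact (toFam hF W' (res F hW' a₁)).2.2 T' hm
    · refine ⟨W, le_rfl, hWT, 0, Subtype.ext (funext fun T' => ?_)⟩
      rw [map_zero, famRes_apply]
      split_ifs with hm
      · by_contra hne
        exact hlev ((hW T' hm (Ne.symm hne)) ▸ T'.2)
      · rfl
  have hle : W' ≤ U := ((hW'W.trans hWV).trans (leOfHom i))
  refine ⟨W', hle, hW'T, ?_⟩
  have h3 : res (cokernel (toFamSheaf hF)) (hW'W.trans hWV) (π.hom.app (op V) g) =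
      res (cokernel (toFamSheaf hF)) hle s := by
    rw [show π.hom.app (op V) g = res _ (leOfHom i) s from hg, res_res]
  rw [← h3, ← res_app]
  have h4 : res (famSheaf F e) (hW'W.trans hWV) g = (toFamSheaf hF).hom.app (op W') a := ha.symm
  rw [h4]
  exact congrArg (fun f : F ⟶ cokernel (toFamSheaf hF) => f.hom.app (op W') a) (cokernel.condition (toFamSheaf hF))

/-- **Grothendieck vanishing**: no cohomology from the dimension of the support on. -/
theorem subsingleton_H_of_suppLT [NoetherianSpace X] : ∀ (e : ℕ) (F : CohTop.Ab X), SuppLT F e →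
    ∀ p : ℕ, e ≤ p → Subsingleton (CohTop.H F p)
  | 0, F, hF, p, _ => ⟨fun x y => by
      have hz := isZero_of_suppLT_zero hF
      have h : ∀ z : CohTop.H F p, z = 0 := fun z =>
        (Abelian.Ext.comp_mk₀_id z).symm.trans (by
          rw [hz.eq_of_src (𝟙 F) 0, Abelian.Ext.mk₀_zero]
          exact Abelian.Ext.comp_zero _ _ _ _ _)
      rw [h x, h y]⟩
  | e + 1, F, hF, p, hp => by
    obtain ⟨p, rfl⟩ : ∃ q, p = q + 1 := ⟨p - 1, by omega⟩
    let φ := toFamSheaf hF
    let T₁ := ShortComplex.mk (kernel.ι φ) (Abelian.factorThruImage φ) (by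
      rw [← cancel_mono (Abelian.image.ι φ), Category.assoc, Abelian.image.fac, kernel.condition, zero_comp])
    have hT₁ : T₁.ShortExact :=
      { exact := ShortComplex.exact_of_f_is_kernel _ (KernelFork.IsLimit.ofι' (kernel.ι φ) _
          fun {W} k hk => ⟨kernel.lift φ k (by rw [← Abelian.image.fac φ, reassoc_of% hk, zero_comp]),
            kernel.lift_ι _ _ _⟩) }
    let T₂ := ShortComplex.mk (Abelian.image.ι φ) (cokernel.π φ) (kernel.condition _)
    have hT₂ : T₂.ShortExact :=
      { exact := ShortComplex.exact_of_f_is_kernel _ (kernelIsKernel _) }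
    have hC := subsingleton_H_of_suppLT e _ (suppLT_cokernel hF) p (by omega)
    have hI : Subsingleton (CohTop.H (Abelian.image φ) (p + 1)) := by
      have hflasque : Subsingleton (CohTop.H (famSheaf F e) (p + 1)) := Groth.Agent.S0453.result _ p
      refine subsingleton_of_forall_eq 0 fun x => ?_
      obtain ⟨y, rfl⟩ := Abelian.Ext.covariant_sequence_exact₁ _ hT₂ x (hflasque.elim _ _) (n₀ := p) rfl
      rw [hC.elim y 0]
      exact Abelian.Ext.zero_comp _ _ _ _ _
    exact Groth.Agent.QCoh.subsingleton_H_X₂ hT₁ (p + 1)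
      (subsingleton_H_of_suppLT e _ (suppLT_kernel hF) (p + 1) (by omega)) hI

/-- Grothendieck vanishing above the dimension. -/
theorem subsingleton_H_of_dim_lt [NoetherianSpace X] {d : ℕ} (hd : topologicalKrullDim X ≤ d)
    (F : CohTop.Ab X) {p : ℕ} (hp : d < p) : Subsingleton (CohTop.H F p) :=
  subsingleton_H_of_suppLT (d + 1) F (suppLT_of_krullDim F hd) p hp

end Groth.Agent.GrothVanish
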