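import Groth.Agent.QCoh.HHExact
import Groth.Agent.S0453
import Mathlib.Algebra.Colimit.Module
import Mathlib.Order.KrullDimension
import Mathlib.Topology.KrullDimension
import Mathlib.Topology.NoetherianSpace
import Mathlib.Topology.Sheaves.SheafCondition.UniqueGluing

/-!
# Grothendieck vanishing on Noetherian spaces

An abelian sheaf whose sections vanish generically on every irreducible closed subset of height
`≥ e` has no cohomology in degrees `≥ e`. The induction step compares the sheaf with the flasque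
sheaf of families of germs, with finite support, at the irreducible closed subsets of height `e`.
-/

set_option autoImplicit false

universe u

open CategoryTheory CategoryTheory.Limits TopologicalSpace Opposite

namespace Groth.Agent.GrothVanish

variable {X : TopCat.{u}} {F G : CohTop.Ab X}

/-- Restriction of sections. -/
noncomputable def res (F : CohTop.Ab X) {U V : Opens X} (h : V ≤ U) : F.obj.obj (op U) →+ F.obj.obj (op V) :=
  (F.obj.map (homOfLE h).op).hom

lemma res_refl (U : Opens X) (h : U ≤ U) (s : F.obj.obj (op U)) : res F h s = s := by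
  show F.obj.map (homOfLE h).op s = s
  rw [show (homOfLE h).op = 𝟙 (op U) from rfl, F.obj.map_id]
  rfl

lemma res_res {U V W : Opens X} (h : V ≤ U) (h' : W ≤ V) (s : F.obj.obj (op U)) :
    res F h' (res F h s) = res F (h'.trans h) s := by
  show F.obj.map (homOfLE h').op (F.obj.map (homOfLE h).op s) = _
  rw [← ConcreteCategory.comp_apply, ← F.obj.map_comp]
  rfl

lemma res_app (φ : F ⟶ G) {U V : Opens X} (h : V ≤ U) (s : F.obj.obj (op U)) :
    φ.hom.app (op V) (res F h s) = res G h (φ.hom.app (op U) s) :=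
  NatTrans.naturality_apply φ.hom (homOfLE h).op s

lemma eq_zero_of_locally {U : Opens X} (s : F.obj.obj (op U)) (h : ∀ x ∈ U, ∃ (V : Opens X) (hVU : V ≤ U),
    x ∈ V ∧ res F hVU s = 0) : s = 0 := by
  choose V hVU hxV hs using h
  refine TopCat.Sheaf.eq_of_locally_eq' (F := (F : TopCat.Sheaf AddCommGrpCat.{u} X))
    (fun x : U => V x.1 x.2) U (fun x => homOfLE (hVU x.1 x.2))
    (fun x hx => Opens.mem_iSup.2 ⟨⟨x, hx⟩, hxV x hx⟩) s 0 fun x => ?_
  exact (hs x.1 x.2).trans (map_zero (res F (hVU x.1 x.2))).symm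

/-- An open subset meets an irreducible closed subset. -/
def Meets (U : Opens X) (T : IrreducibleCloseds X) : Prop :=
  ((U : Set X) ∩ (T : Set X)).Nonempty

lemma Meets.mono {U V : Opens X} {T : IrreducibleCloseds X} (h : Meets U T) (hUV : U ≤ V) : Meets V T :=
  Set.Nonempty.mono (Set.inter_subset_inter_left _ hUV) h

lemma Meets.inf {U V : Opens X} {T : IrreducibleCloseds X} (hU : Meets U T) (hV : Meets V T) :
    Meets (U ⊓ V) T := by
  obtain ⟨x, hx, hx'⟩ := T.isIrreducible'.2 U V U.2 V.2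
    ⟨hU.some, hU.some_mem.2, hU.some_mem.1⟩ ⟨hV.some, hV.some_mem.2, hV.some_mem.1⟩
  exact ⟨x, hx', hx⟩

/-- A section is generically zero on `T`. -/
def VanishesAt {U : Opens X} (s : F.obj.obj (op U)) (T : IrreducibleCloseds X) : Prop :=
  ∃ (V : Opens X) (h : V ≤ U), Meets V T ∧ res F h s = 0

/-- The sheaf is supported in dimension `< e`. -/
def SuppLT (F : CohTop.Ab X) (e : ℕ) : Prop :=
  ∀ (U : Opens X) (s : F.obj.obj (op U)) (T : IrreducibleCloseds X),
    Meets U T → (e : ℕ∞) ≤ Order.height T → VanishesAt s T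

lemma suppLT_of_krullDim (F : CohTop.Ab X) {d : ℕ} (hd : topologicalKrullDim X ≤ d) : SuppLT F (d + 1) := by
  intro U s T _ hT
  exfalso
  have h1 : ((Order.height T : ℕ∞) : WithBot ℕ∞) ≤ d := (Order.height_le_krullDim T).trans hd
  have h2 : Order.height T ≤ (d : ℕ∞) := by exact_mod_cast h1
  have h3 := hT.trans h2
  norm_cast at h3
  omega

/-- A sheaf supported in dimension `< 0` is zero. -/
lemma isZero_of_suppLT_zero (hF : SuppLT F 0) : IsZero F := by
  rw [IsZero.iff_id_eq_zero]
  apply Sheaf.hom_ext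
  ext U s
  change s = 0
  refine eq_zero_of_locally (U := U.unop) s fun x hx => ?_
  let T : IrreducibleCloseds X := ⟨closure {x}, isIrreducible_singleton.closure, isClosed_closure⟩
  obtain ⟨V, hVU, ⟨y, hyV, hyT⟩, hs⟩ := hF U.unop s T ⟨x, hx, subset_closure rfl⟩ (by simp)
  refine ⟨V, hVU, ?_, hs⟩
  obtain ⟨z, hz, hzx⟩ := mem_closure_iff.1 hyT V V.2 hyV
  exact Set.mem_singleton_iff.1 hzx ▸ hz

/-- Opens meeting `T`, ordered by reverse inclusion. -/
def Nbhd (T : IrreducibleCloseds X) : Type u := {V : Opens X // Meets V T}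

instance (T : IrreducibleCloseds X) : Preorder (Nbhd T) where
  le V W := W.1 ≤ V.1
  le_refl V := le_refl V.1
  le_trans _ _ _ h h' := le_trans h' h

instance (T : IrreducibleCloseds X) : IsDirectedOrder (Nbhd T) :=
  ⟨fun V W => ⟨⟨V.1 ⊓ W.1, V.2.inf W.2⟩, (inf_le_left : V.1 ⊓ W.1 ≤ V.1), (inf_le_right : V.1 ⊓ W.1 ≤ W.1)⟩⟩

open scoped Classical in
/-- The germs of a sheaf at an irreducible closed subset. -/
def Germ (F : CohTop.Ab X) (T : IrreducibleCloseds X) : Type u :=
  AddCommGroup.DirectLimit (fun V : Nbhd T => F.obj.obj (op V.1))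
    (fun _ _ h => res F h)

open scoped Classical in
noncomputable instance (F : CohTop.Ab X) (T : IrreducibleCloseds X) : AddCommGroup (Germ F T) :=
  inferInstanceAs (AddCommGroup (AddCommGroup.DirectLimit (fun V : Nbhd T => F.obj.obj (op V.1))
    (fun _ _ h => res F h)))

open scoped Classical in
/-- The germ of a section. -/
noncomputable def germ {U : Opens X} {T : IrreducibleCloseds X} (h : Meets U T) :
    F.obj.obj (op U) →+ Germ F T :=
  AddCommGroup.DirectLimit.of (fun V : Nbhd T => F.obj.obj (op V.1)) (fun _ _ h => res F h) ⟨U, h⟩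

lemma germ_res {U V : Opens X} {T : IrreducibleCloseds X} (hV : Meets V T) (hVU : V ≤ U)
    (s : F.obj.obj (op U)) : germ hV (res F hVU s) = germ (hV.mono hVU) s := by
  classical
  exact AddCommGroup.DirectLimit.of_f (G := fun V : Nbhd T => F.obj.obj (op V.1))
    (f := fun _ _ h => res F h) (i := ⟨U, hV.mono hVU⟩) (j := ⟨V, hV⟩) hVU s

lemma germ_surjective (T : IrreducibleCloseds X) (hne : ∃ U, Meets (U : Opens X) T) (g : Germ F T) :
    ∃ (V : Opens X) (h : Meets V T) (s : F.obj.obj (op V)), germ h s = g := by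
  classical
  obtain ⟨U, hU⟩ := hne
  have : Nonempty (Nbhd T) := ⟨⟨U, hU⟩⟩
  exact AddCommGroup.DirectLimit.induction_on g fun i s => ⟨i.1, i.2, s, rfl⟩

lemma germ_eq_zero_iff {U : Opens X} {T : IrreducibleCloseds X} (h : Meets U T) (s : F.obj.obj (op U)) :
    germ h s = 0 ↔ VanishesAt s T := by
  classical
  constructor
  · intro h0
    have : DirectedSystem (fun V : Nbhd T => F.obj.obj (op V.1)) (fun _ _ hij => ⇑(res F hij)) :=
      ⟨fun i x => res_refl i.1 _ x, fun k j i hij hjk x => res_res _ _ _⟩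
    obtain ⟨j, hj, hs⟩ := AddCommGroup.DirectLimit.of.zero_exact _ _ h0
    exact ⟨j.1, hj, j.2, hs⟩
  · rintro ⟨V, hVU, hV, hs⟩
    rw [← germ_res hV hVU, hs, map_zero]

section Noetherian

variable [NoetherianSpace X]

omit [NoetherianSpace X] in
lemma exists_mem_forall_not_subset (T : IrreducibleCloseds X) (s : Finset (IrreducibleCloseds X))
    (h : ∀ T' ∈ s, ¬ T ≤ T') {V : Opens X} (hV : Meets V T) :
    ∃ W : Opens X, W ≤ V ∧ Meets W T ∧ ∀ T' ∈ s, ¬ Meets W T' := by
  classical
  induction s using Finset.induction_on generalizing V with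
  | empty => exact ⟨V, le_rfl, hV, by simp⟩
  | @insert T' s _ ih =>
    obtain ⟨y, hyT, hyT'⟩ := Set.not_subset.1 (h T' (Finset.mem_insert_self _ _))
    let C : Opens X := ⟨(T' : Set X)ᶜ, T'.isClosed'.isOpen_compl⟩
    have hC : Meets C T := ⟨y, hyT', hyT⟩
    obtain ⟨W, hW, hWT, hWs⟩ := ih (fun a ha => h a (Finset.mem_insert_of_mem ha)) (hV.inf hC)
    refine ⟨W, hW.trans inf_le_left, hWT, fun a ha => ?_⟩
    rcases Finset.mem_insert.1 ha with rfl | ha
    · rintro ⟨z, hzW, hzT⟩
      exact (hW hzW).2 hzT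
    · exact hWs a ha

/-- Irreducible closed subsets of a fixed height. -/
abbrev Lev (X : TopCat.{u}) (e : ℕ) : Type u := {T : IrreducibleCloseds X // Order.height T = (e : ℕ∞)}

omit [NoetherianSpace X] in
lemma not_le_of_lev {e : ℕ} (T : IrreducibleCloseds X) (hT : (e : ℕ∞) ≤ Order.height T) (T' : Lev X e)
    (hne : T ≠ T'.1) : ¬ T ≤ T'.1 := fun hle => by
  have h1 := Order.height_add_one_le (lt_of_le_of_ne hle hne)
  rw [T'.2] at h1
  have h2 : (e : ℕ∞) + 1 ≤ (e : ℕ∞) := (add_le_add hT le_rfl).trans h1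
  norm_cast at h2
  omega

/-- Only finitely many germs of a section at a level are nonzero. -/
theorem finite_germ_ne_zero {e : ℕ} (hF : SuppLT F (e + 1)) {U : Opens X} (s : F.obj.obj (op U)) :
    {T : Lev X e | ∃ h : Meets U T.1, germ h s ≠ 0}.Finite := by
  classical
  let Z : Set X := closure {x | x ∈ U ∧ ∀ (V : Opens X) (h : V ≤ U), x ∈ V → res F h s ≠ 0}
  obtain ⟨S, hS, hSc, hSi, hZ⟩ :=
    NoetherianSpace.exists_finite_set_isClosed_irreducible (α := X) (s := Z) isClosed_closure
  refine (hS.preimage (f := fun T : Lev X e => ((T.1 : Set X))) (fun a _ b _ h =>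
    Subtype.ext (SetLike.coe_injective h))).subset ?_
  rintro T ⟨hT, hne⟩
  have hTZ : ((T.1 : Set X) ∩ U) ⊆ Z := fun x hx => subset_closure ⟨hx.2, fun V h hxV h0 =>
    hne ((germ_eq_zero_iff hT s).2 ⟨V, h, ⟨x, hxV, hx.1⟩, h0⟩)⟩
  have hT' : (T.1 : Set X) ⊆ Z := by
    refine Set.Subset.trans ?_ (closure_minimal hTZ isClosed_closure)
    exact subset_closure_inter_of_isPreirreducible_of_isOpen T.1.isIrreducible'.2 U.2 (by
      obtain ⟨x, hx⟩ := hT
      exact ⟨x, hx.2, hx.1⟩)
  obtain ⟨C, hC, hTC⟩ : ∃ C ∈ S, (T.1 : Set X) ⊆ C := by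
    obtain ⟨C, hC, hTC⟩ := isIrreducible_iff_sUnion_isClosed.1 T.1.isIrreducible' hS.toFinset
      (fun C hC => hSc C (hS.mem_toFinset.1 hC)) (by
        rw [Set.Finite.coe_toFinset]
        exact hT'.trans hZ.subset)
    exact ⟨C, hS.mem_toFinset.1 hC, hTC⟩
  let C' : IrreducibleCloseds X := ⟨C, hSi C hC, hSc C hC⟩
  have hle : T.1 ≤ C' := hTC
  rcases hle.eq_or_lt with he | hlt
  · show (T.1 : Set X) ∈ S
    rw [he]
    exact hC
  exfalso
  have h1 : ((e + 1 : ℕ) : ℕ∞) ≤ Order.height C' := by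
    have h2 := Order.height_add_one_le hlt
    rw [T.2] at h2
    exact_mod_cast h2
  obtain ⟨V, hVU, ⟨y, hyV, hyC⟩, hs0⟩ := hF U s C' (Set.Nonempty.mono (Set.inter_subset_inter_right _ hle) hT) h1
  have hyZ : y ∈ Z := hZ.superset ⟨C, hC, hyC⟩
  obtain ⟨z, hzV, hzU, hz⟩ := mem_closure_iff.1 hyZ V V.2 hyV
  exact hz V hVU hzV hs0

end Noetherian

end Groth.Agent.GrothVanish
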